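import Mathlib
import Groth.Prelude.Def_DerSch
import Groth.Agent.H4.SPush1
import Groth.Agent.H4.RPC1
import Groth.Agent.H4.FlatPull1
import Groth.Agent.Lib.Lead.MS.PushLeftAdj

/-! # Direct image along a closed immersion preserves all colimits (arbitrary modules), hence has
a right adjoint `ι^♭`. -/

set_option autoImplicit false
universe u
open CategoryTheory CategoryTheory.Limits AlgebraicGeometry

namespace Groth.Agent.LD.CI

open Groth.Agent.H4.SPt4 Groth.Agent.H4.SPush1

variable {X P : Scheme.{u}}

/-- the stalk of a direct image along a closed immersion vanishes outside the image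
(copy of helper4's `SmTor9.isZero_stalk_push`, with lighter imports). -/
lemma isZero_stalk_push (i : X ⟶ P) [IsClosedImmersion i] (M : X.Modules) (p : P)
    (hp : p ∉ Set.range i.base) :
    IsZero ((DerSch.stalkFunctor P p).obj ((Scheme.Modules.pushforward i).obj M)) := by
  haveI : Subsingleton (((Scheme.Modules.pushforward i).obj M).presheaf.stalk p) := by
    refine ⟨fun m m' => ?_⟩
    have key : ∀ m : ((Scheme.Modules.pushforward i).obj M).presheaf.stalk p, m = 0 := by
      intro m
      obtain ⟨W, hW, s, rfl⟩ :=
        ((Scheme.Modules.pushforward i).obj M).presheaf.exists_germ_eq (x := p) m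
      let V : P.Opens := ⟨(Set.range i.base)ᶜ, i.isClosedEmbedding.isClosed_range.isOpen_compl⟩ ⊓ W
      have hVe : i ⁻¹ᵁ V = ⊥ := by
        apply le_antisymm _ bot_le
        intro z hz
        exact (hz.1 ⟨z, rfl⟩).elim
      have hxV : p ∈ V := ⟨hp, hW⟩
      haveI : Subsingleton Γ(M, i ⁻¹ᵁ V) :=
        Groth.Agent.H4.RPC1.subsingleton_sections_of_eq_bot M hVe
      have h1 := ((Scheme.Modules.pushforward i).obj M).presheaf.germ_res_apply
        (homOfLE (inf_le_right : V ≤ W)) p hxV s
      rw [← h1]
      have h2 : ((Scheme.Modules.pushforward i).obj M).presheaf.map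
          (homOfLE (inf_le_right : V ≤ W)).op s = 0 :=
        Subsingleton.elim (α := Γ(M, i ⁻¹ᵁ V)) _ _
      rw [h2, map_zero]
    rw [key m, key m']
  exact ModuleCat.isZero_of_subsingleton
    (M := ModuleCat.of (P.presheaf.stalk p)
      (((Scheme.Modules.pushforward i).obj M).presheaf.stalk p))

instance preservesColimits_stalkFunctor (x : X) :
    PreservesColimitsOfSize.{u, u} (DerSch.stalkFunctor X x) :=
  (stalkSkyAdj x).leftAdjoint_preservesColimits

instance hasColimits_modules (X : Scheme.{u}) : HasColimitsOfSize.{u, u} X.Modules :=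
  inferInstanceAs (HasColimitsOfSize.{u, u} (SheafOfModules.{u} X.ringCatSheaf))

/-- **direct image along a closed immersion preserves all small colimits.** -/
theorem preservesColimits_pushforward (ι : X ⟶ P) [IsClosedImmersion ι] :
    PreservesColimitsOfSize.{u, u} (Scheme.Modules.pushforward ι) := by
  refine ⟨fun {J} _ => ⟨fun {K} => ?_⟩⟩
  haveI : IsIso (colimit.post K (Scheme.Modules.pushforward ι)) := by
    rw [Groth.Agent.H4.FlatPull1.isIso_iff_stalk]
    intro p
    by_cases hp : p ∈ Set.range ι.base
    · obtain ⟨x, rfl⟩ := hp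
      haveI : PreservesColimit K (Scheme.Modules.pushforward ι ⋙
          DerSch.stalkFunctor P (ι.base x)) :=
        preservesColimit_of_natIso K (stalkPushIso ι x ι.isClosedEmbedding.isInducing).symm
      have h := colimit.post_post K (Scheme.Modules.pushforward ι)
        (DerSch.stalkFunctor P (ι.base x))
      haveI : IsIso (colimit.post (K ⋙ Scheme.Modules.pushforward ι)
          (DerSch.stalkFunctor P (ι.base x)) ≫
          (DerSch.stalkFunctor P (ι.base x)).map
            (colimit.post K (Scheme.Modules.pushforward ι))) := by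
        rw [h]; infer_instance
      exact IsIso.of_isIso_comp_left (colimit.post (K ⋙ Scheme.Modules.pushforward ι)
          (DerSch.stalkFunctor P (ι.base x))) _
    · have h2 : IsZero ((DerSch.stalkFunctor P p).obj
          ((Scheme.Modules.pushforward ι).obj (colimit K))) := isZero_stalk_push ι _ p hp
      have h1 : IsZero ((DerSch.stalkFunctor P p).obj
          (colimit (K ⋙ Scheme.Modules.pushforward ι))) := by
        rw [IsZero.iff_id_eq_zero]
        apply (isColimitOfPreserves (DerSch.stalkFunctor P p)
          (colimit.isColimit (K ⋙ Scheme.Modules.pushforward ι))).hom_ext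
        intro j
        exact (isZero_stalk_push ι (K.obj j) p hp).eq_of_src _ _
      exact ⟨⟨0, h1.eq_of_src _ _, h2.eq_of_src _ _⟩⟩
  exact preservesColimit_of_isIso_post (Scheme.Modules.pushforward ι) K

theorem isLeftAdjoint_pushforward (ι : X ⟶ P) [IsClosedImmersion ι] :
    (Scheme.Modules.pushforward ι).IsLeftAdjoint := by
  have h := preservesColimits_pushforward ι
  exact @Groth.Agent.LD.MS.isLeftAdjoint_of_preservesColimits' _ _ _ X.ringCatSheaf P.Modules _
    (Scheme.Modules.pushforward ι) h

/-- the right adjoint `ι^♭` of `ι_*` for a closed immersion. -/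
noncomputable def flat (ι : X ⟶ P) [IsClosedImmersion ι] : P.Modules ⥤ X.Modules :=
  haveI := isLeftAdjoint_pushforward ι
  (Scheme.Modules.pushforward ι).rightAdjoint

/-- `ι_* ⊣ ι^♭`. -/
noncomputable def flatAdj (ι : X ⟶ P) [IsClosedImmersion ι] :
    Scheme.Modules.pushforward ι ⊣ flat ι :=
  haveI := isLeftAdjoint_pushforward ι
  Adjunction.ofIsLeftAdjoint _

end Groth.Agent.LD.CI
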