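import Mathlib
import Groth.Prelude.Def_DerSch
import Groth.Agent.H4.SPt5
import Groth.Agent.H4.SPush1
import Groth.Agent.H4.SPt8
import Groth.Agent.H4.FlatPull1
import Groth.Agent.Lib.Lead.CI.Colim
import Groth.Agent.Lib.Helper7.ClImmMod

/-! # The stalk of the unit `N ⟶ f_* f^* N`, and full faithfulness of `ι_*` for a closed
immersion (arbitrary modules). -/

set_option autoImplicit false
universe u
open CategoryTheory CategoryTheory.Limits AlgebraicGeometry TensorProduct

namespace Groth.Agent.LD.CI

open Groth.Agent.H4.SPt4 Groth.Agent.H4.SPt5 Groth.Agent.H4.SPush1 Groth.Agent.H4.SPt8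

variable {X Y : Scheme.{u}} (f : X ⟶ Y) (x : X)

/-- the section `η(n)` of `f^* N` over `f⁻¹ V`. -/
noncomputable def uSec (N : Y.Modules) (V : Y.Opens) (n : Γ(N, V)) :
    Γ((Scheme.Modules.pullback f).obj N, f ⁻¹ᵁ V) :=
  ((Scheme.Modules.pullbackPushforwardAdjunction f).unit.app N).app V n

/-- **the stalk of the pullback on germs of unit sections**: `α(germ_x (η n)) = 1 ⊗ germ n`. -/
theorem stalkPullbackIso_germ_unit (N : Y.Modules) (V : Y.Opens) (hx : f.base x ∈ V)
    (n : Γ(N, V)) :
    ((stalkPullbackIso f x).hom.app N).hom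
      (gm x ((Scheme.Modules.pullback f).obj N) (f ⁻¹ᵁ V) hx (uSec f N V n)) =
    ((ModuleCat.extendRestrictScalarsAdj.{u, u, u} (f.stalkMap x).hom).unit.app
      ((DerSch.stalkFunctor Y (f.base x)).obj N)).hom (gm (f.base x) N V hx n) := by
  have h := unit_conjugateEquiv_symm
    ((stalkSkyAdj (f.base x)).comp
      (ModuleCat.extendRestrictScalarsAdj.{u, u, u} (f.stalkMap x).hom))
    ((Scheme.Modules.pullbackPushforwardAdjunction f).comp (stalkSkyAdj x))
    (skyPushNatIso f x).symm.hom N
  have h2 := congrArg (fun k => skySec x (U := f ⁻¹ᵁ V) ((Scheme.Modules.Hom.app k V) n) ⟨hx⟩) h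
  exact h2.symm


/-- the unit `m ↦ 1 ⊗ m` of extension of scalars is surjective when the ring map is. -/
theorem surjective_extendScalars_unit {R S : Type u} [CommRing R] [CommRing S] (φ : R →+* S)
    (hφ : Function.Surjective φ) (M : ModuleCat.{u} R) :
    Function.Surjective ((ModuleCat.extendRestrictScalarsAdj.{u, u, u} φ).unit.app M).hom := by
  letI := φ.toAlgebra
  intro w
  have key : ∀ w : S ⊗[R] M, ∃ m : M, ((1 : S) ⊗ₜ[R] m : S ⊗[R] M) = w := by
    intro w
    induction w using TensorProduct.induction_on with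
    | zero => exact ⟨0, by simp⟩
    | tmul s m =>
      obtain ⟨r, rfl⟩ := hφ s
      refine ⟨r • m, ?_⟩
      rw [← TensorProduct.smul_tmul]
      congr 1
      change φ r * 1 = φ r
      rw [mul_one]
    | add a b ha hb =>
      obtain ⟨m, rfl⟩ := ha
      obtain ⟨m', rfl⟩ := hb
      exact ⟨m + m', by rw [TensorProduct.tmul_add]⟩
  obtain ⟨m, hm⟩ := key w
  exact ⟨m, hm⟩

section ClosedImm

variable {P : Scheme.{u}} (ι : X ⟶ P) [IsClosedImmersion ι]

/-- the unit `N ⟶ ι_* ι^* N` is an epimorphism for a closed immersion (all modules). -/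
theorem epi_unit (N : P.Modules) :
    Epi ((Scheme.Modules.pullbackPushforwardAdjunction ι).unit.app N) := by
  rw [Groth.Agent.H4.FlatPull1.epi_iff_stalk]
  intro p
  by_cases hp : p ∈ Set.range ι.base
  · obtain ⟨x, rfl⟩ := hp
    rw [ModuleCat.epi_iff_surjective]
    intro t
    haveI := isIso_pushStalkHom ι x ι.isClosedEmbedding.isInducing
      ((Scheme.Modules.pullback ι).obj N)
    have hbij := (ConcreteCategory.isIso_iff_bijective
      (pushStalkHom ι x ((Scheme.Modules.pullback ι).obj N))).1 inferInstance
    have hα := (ConcreteCategory.isIso_iff_bijective ((stalkPullbackIso ι x).hom.app N)).1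
      inferInstance
    obtain ⟨m, hm⟩ := surjective_extendScalars_unit (ι.stalkMap x).hom
      (ι.stalkMap_surjective x) ((DerSch.stalkFunctor P (ι.base x)).obj N)
      (((stalkPullbackIso ι x).hom.app N).hom
        ((pushStalkHom ι x ((Scheme.Modules.pullback ι).obj N)).hom t))
    obtain ⟨V, hxV, n, rfl⟩ := exists_gm (ι.base x) N m
    refine ⟨gm (ι.base x) N V hxV n, ?_⟩
    apply hbij.1
    apply hα.1
    refine Eq.trans ?_ hm
    refine Eq.trans ?_ (stalkPullbackIso_germ_unit ι x N V hxV n)
    congr 1
    have e1 : ((DerSch.stalkFunctor P (ι.base x)).map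
        ((Scheme.Modules.pullbackPushforwardAdjunction ι).unit.app N)).hom
        (gm (ι.base x) N V hxV n) =
        ((Scheme.Modules.pushforward ι).obj ((Scheme.Modules.pullback ι).obj N)).presheaf.germ V
          (ι.base x) hxV (((Scheme.Modules.pullbackPushforwardAdjunction ι).unit.app N).app V n) :=
      DerSch.stalkFunctor_map_germ (ι.base x) _ V hxV n
    refine (congrArg (pushStalkHom ι x ((Scheme.Modules.pullback ι).obj N)).hom e1).trans ?_
    rw [pushStalkHom_apply]
    exact pushStalkAb_germ ι x _ V hxV _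
  · have hZ := isZero_stalk_push ι ((Scheme.Modules.pullback ι).obj N) p hp
    exact ⟨fun g h _ => hZ.eq_of_src g h⟩

/-- the counit `ι^* ι_* A ⟶ A` is an isomorphism for a closed immersion (all modules). -/
theorem isIso_counit (A : X.Modules) :
    IsIso ((Scheme.Modules.pullbackPushforwardAdjunction ι).counit.app A) := by
  haveI := Groth.Agent.H7.ClImmMod.faithful_pushforward ι
  have htri := (Scheme.Modules.pullbackPushforwardAdjunction ι).right_triangle_components A
  haveI := epi_unit ι ((Scheme.Modules.pushforward ι).obj A)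
  haveI : IsSplitMono ((Scheme.Modules.pullbackPushforwardAdjunction ι).unit.app
      ((Scheme.Modules.pushforward ι).obj A)) := ⟨⟨⟨_, htri⟩⟩⟩
  haveI : IsIso ((Scheme.Modules.pullbackPushforwardAdjunction ι).unit.app
      ((Scheme.Modules.pushforward ι).obj A)) := isIso_of_epi_of_isSplitMono _
  haveI : IsIso ((Scheme.Modules.pushforward ι).map
      ((Scheme.Modules.pullbackPushforwardAdjunction ι).counit.app A)) :=
    IsIso.of_isIso_fac_left htri
  exact isIso_of_reflects_iso _ (Scheme.Modules.pushforward ι)

/-- **`ι_*` is fully faithful** for a closed immersion (all modules). -/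
noncomputable def fullyFaithfulPush : (Scheme.Modules.pushforward ι).FullyFaithful := by
  haveI : IsIso (Scheme.Modules.pullbackPushforwardAdjunction ι).counit :=
    haveI := fun A => isIso_counit ι A
    NatIso.isIso_of_isIso_app _
  exact (Scheme.Modules.pullbackPushforwardAdjunction ι).fullyFaithfulROfIsIsoCounit

/-- modules with isomorphic direct images along a closed immersion are isomorphic. -/
theorem nonempty_iso_of_push_iso {A B : X.Modules}
    (e : (Scheme.Modules.pushforward ι).obj A ≅ (Scheme.Modules.pushforward ι).obj B) :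
    Nonempty (A ≅ B) :=
  ⟨(fullyFaithfulPush ι).preimageIso e⟩

/-- the unit is an isomorphism on direct images. -/
theorem isIso_unit_push (A : X.Modules) :
    IsIso ((Scheme.Modules.pullbackPushforwardAdjunction ι).unit.app
      ((Scheme.Modules.pushforward ι).obj A)) := by
  have htri := (Scheme.Modules.pullbackPushforwardAdjunction ι).right_triangle_components A
  haveI := epi_unit ι ((Scheme.Modules.pushforward ι).obj A)
  haveI : IsSplitMono ((Scheme.Modules.pullbackPushforwardAdjunction ι).unit.app
      ((Scheme.Modules.pushforward ι).obj A)) := ⟨⟨⟨_, htri⟩⟩⟩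
  exact isIso_of_epi_of_isSplitMono _

end ClosedImm

end Groth.Agent.LD.CI
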