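import Mathlib
import Groth.Prelude.Def_SecTwist
import Groth.Agent.H4.SPt7
import Groth.Agent.H4.SPt8
import Groth.Agent.Lib.Lead.CI.UnitStalk
import Groth.Agent.Lib.Lead.QC.ProjFormulaLF
import Groth.Agent.Lib.Lead.QC.TwistEquiv

/-! # The projection formula `N ⊗ ι_* A ≅ ι_* (ι^* N ⊗ A)` for a closed immersion and ARBITRARY
modules `N`, `A`. -/

set_option autoImplicit false
universe u
open CategoryTheory CategoryTheory.Limits AlgebraicGeometry TensorProduct Opposite MonoidalCategory

namespace Groth.Agent.LD.CI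

open Groth.Agent.H4.SPt4 Groth.Agent.H4.SPt5 Groth.Agent.H4.SPush1 Groth.Agent.H4.SPt7
  Groth.Agent.H4.SPt8 Groth.Agent.LD.QC

/-- the stalk of the tensor product on germs of pure tensors. -/
theorem tau_germ_tmul {X : Scheme.{u}} (x : X) (M N : X.Modules) (U : X.Opens) (hx : x ∈ U)
    (m : Γ(M, U)) (n : Γ(N, U)) :
    (stalkTensorObjIso x M N).hom.hom
      (gm x (CohB1.tensorMod M N) U hx (SecTwist.tmul M N U m n)) =
      gm x M U hx m ⊗ₜ gm x N U hx n := by
  have h := τ_comp x M N (B x M N) (𝟙 _)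
  have h2 := congrArg (fun k => gSec x ((k.app (op U)) (tm M N (op U) m n)) ⟨hx⟩) h
  exact h2

theorem tau_inv_gm_tmul {X : Scheme.{u}} (x : X) (M N : X.Modules) (U : X.Opens) (hx : x ∈ U)
    (m : Γ(M, U)) (n : Γ(N, U)) :
    (stalkTensorObjIso x M N).inv.hom (gm x M U hx m ⊗ₜ gm x N U hx n) =
      gm x (CohB1.tensorMod M N) U hx (SecTwist.tmul M N U m n) := by
  rw [← tau_germ_tmul]
  exact LinearMap.congr_fun (congrArg ModuleCat.Hom.hom (stalkTensorObjIso x M N).hom_inv_id) _

/-- additive maps out of the tensor product of two stalks are determined by germs of pure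
tensors. -/
theorem addHom_ext_gm {X : Scheme.{u}} (x : X) (M N : X.Modules) {Q : Type*} [AddCommMonoid Q]
    (f g : (B x M N : Type u) →+ Q)
    (h : ∀ (U : X.Opens) (hx : x ∈ U) (m : Γ(M, U)) (n : Γ(N, U)),
      f (gm x M U hx m ⊗ₜ gm x N U hx n) = g (gm x M U hx m ⊗ₜ gm x N U hx n)) : f = g := by
  apply AddMonoidHom.ext
  intro t
  induction t using TensorProduct.induction_on with
  | zero => rw [map_zero, map_zero]
  | tmul a b =>
    obtain ⟨U, hx, m, n, rfl, rfl⟩ := BilFam.exists_common (x := x) (M := M) (N := N) a b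
    exact h U hx m n
  | add a b ha hb => rw [map_add, map_add, ha, hb]

section Alg

variable {R S : Type u} [CommRing R] [CommRing S] (φ : R →+* S)
  (M₁ M₂ : ModuleCat.{u} R) (M₁' M₂' : ModuleCat.{u} S)
  (α : M₁' ≅ (ModuleCat.extendScalars.{u, u, u} φ).obj M₁)
  (v : M₂ ≅ (ModuleCat.restrictScalars.{u} φ).obj M₂')

/-- the algebraic projection formula `M₁ ⊗_R M₂' ≅ (S ⊗_R M₁) ⊗_S M₂'`. -/
theorem exists_K : ∃ K : (M₁ ⊗[R] M₂) ≃+ (M₁' ⊗[S] M₂'), ∀ (m₁ : M₁) (m₂ : M₂),
    K (m₁ ⊗ₜ m₂) = α.inv.hom
      (((ModuleCat.extendRestrictScalarsAdj.{u, u, u} φ).unit.app M₁).hom m₁) ⊗ₜ v.hom.hom m₂ := by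
  letI := φ.toAlgebra
  letI : Module R M₂' := Module.compHom M₂' φ
  haveI : IsScalarTower R S M₂' := IsScalarTower.of_algebraMap_smul (fun r m => rfl)
  let α' : M₁' ≃ₗ[S] S ⊗[R] M₁ := α.toLinearEquiv
  let v' : M₂ ≃ₗ[R] M₂' := v.toLinearEquiv
  refine ⟨(TensorProduct.congr (LinearEquiv.refl R M₁) v').toAddEquiv.trans
    ((TensorProduct.comm R M₁ M₂').toAddEquiv.trans
      ((TensorProduct.AlgebraTensorModule.cancelBaseChange R S S M₂' M₁).symm.toAddEquiv.trans
        ((TensorProduct.congr (LinearEquiv.refl S M₂') α'.symm).toAddEquiv.trans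
          (TensorProduct.comm S M₂' M₁').toAddEquiv))), fun m₁ m₂ => ?_⟩
  rfl

end Alg

section Main

variable {X P : Scheme.{u}} (ι : X ⟶ P) [IsClosedImmersion ι] (A : X.Modules) (N : P.Modules)

theorem isIso_stalk_projHomL (x : X) :
    IsIso ((DerSch.stalkFunctor P (ι.base x)).map (projHomL ι A N)) := by
  haveI hpi := fun T : X.Modules => isIso_pushStalkHom ι x ι.isClosedEmbedding.isInducing T
  obtain ⟨K, hK⟩ := exists_K (ι.stalkMap x).hom
    ((DerSch.stalkFunctor P (ι.base x)).obj N)
    ((DerSch.stalkFunctor P (ι.base x)).obj ((Scheme.Modules.pushforward ι).obj A))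
    ((DerSch.stalkFunctor X x).obj ((Scheme.Modules.pullback ι).obj N))
    ((DerSch.stalkFunctor X x).obj A)
    ((stalkPullbackIso ι x).app N)
    (asIso (pushStalkHom ι x A))
  let τp := stalkTensorObjIso (ι.base x) N ((Scheme.Modules.pushforward ι).obj A)
  let τx := stalkTensorObjIso x ((Scheme.Modules.pullback ι).obj N) A
  let T := CohB1.tensorMod ((Scheme.Modules.pullback ι).obj N) A
  let g : (B (ι.base x) N ((Scheme.Modules.pushforward ι).obj A) : Type u) →+
      (B x ((Scheme.Modules.pullback ι).obj N) A : Type u) :=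
    (τx.hom.hom.toAddMonoidHom).comp
      ((pushStalkHom ι x T).hom.toAddMonoidHom.comp
        (((DerSch.stalkFunctor P (ι.base x)).map (projHomL ι A N)).hom.toAddMonoidHom.comp
          τp.inv.hom.toAddMonoidHom))
  have hfg : K.toAddMonoidHom = g := by
    apply addHom_ext_gm
    intro U hx m n
    have e1 : K.toAddMonoidHom (gm (ι.base x) N U hx m ⊗ₜ
        gm (ι.base x) ((Scheme.Modules.pushforward ι).obj A) U hx n) =
        gm x ((Scheme.Modules.pullback ι).obj N) (ι ⁻¹ᵁ U) hx (uSec ι N U m) ⊗ₜ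
          gm x A (ι ⁻¹ᵁ U) hx n := by
      refine (hK _ _).trans ?_
      congr 1
      · rw [← stalkPullbackIso_germ_unit ι x N U hx m]
        exact LinearMap.congr_fun (congrArg ModuleCat.Hom.hom
          ((stalkPullbackIso ι x).app N).hom_inv_id) _
      · change (pushStalkHom ι x A).hom _ = _
        rw [pushStalkHom_apply]
        exact pushStalkAb_germ ι x A U hx n
    refine e1.trans (Eq.symm ?_)
    change τx.hom.hom ((pushStalkHom ι x T).hom
      (((DerSch.stalkFunctor P (ι.base x)).map (projHomL ι A N)).hom (τp.inv.hom _))) = _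
    rw [tau_inv_gm_tmul]
    have e2 : ((DerSch.stalkFunctor P (ι.base x)).map (projHomL ι A N)).hom
        (gm (ι.base x) (CohB1.tensorMod N ((Scheme.Modules.pushforward ι).obj A)) U hx
          (SecTwist.tmul N ((Scheme.Modules.pushforward ι).obj A) U m n)) =
        gm (ι.base x) ((Scheme.Modules.pushforward ι).obj T) U hx
          ((projHomL ι A N).app U (SecTwist.tmul N ((Scheme.Modules.pushforward ι).obj A) U m n)) :=
      DerSch.stalkFunctor_map_germ (ι.base x) _ U hx _
    rw [e2, projHomL_app_tmul]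
    have e3 : (pushStalkHom ι x T).hom
        (gm (ι.base x) ((Scheme.Modules.pushforward ι).obj T) U hx
          (show Γ((Scheme.Modules.pushforward ι).obj T, U) from
            SecTwist.tmul ((Scheme.Modules.pullback ι).obj N) A (ι ⁻¹ᵁ U) (unitSec ι N U m)
              (show Γ(A, ι ⁻¹ᵁ U) from n))) =
        gm x T (ι ⁻¹ᵁ U) hx (SecTwist.tmul ((Scheme.Modules.pullback ι).obj N) A (ι ⁻¹ᵁ U)
          (unitSec ι N U m) (show Γ(A, ι ⁻¹ᵁ U) from n)) := by
      rw [pushStalkHom_apply]
      exact pushStalkAb_germ ι x T U hx _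
    rw [e3]
    exact tau_germ_tmul x _ A (ι ⁻¹ᵁ U) hx _ _
  have hg : Function.Bijective g := by
    rw [← hfg]
    exact K.bijective
  have hτx : Function.Bijective τx.hom.hom :=
    (ConcreteCategory.isIso_iff_bijective τx.hom).1 inferInstance
  have hpush : Function.Bijective (pushStalkHom ι x T).hom :=
    (ConcreteCategory.isIso_iff_bijective (pushStalkHom ι x T)).1 (hpi T)
  have hτp : Function.Bijective τp.inv.hom :=
    (ConcreteCategory.isIso_iff_bijective τp.inv).1 inferInstance
  rw [ConcreteCategory.isIso_iff_bijective]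
  have h1 : Function.Bijective (fun z => (pushStalkHom ι x T).hom
      (((DerSch.stalkFunctor P (ι.base x)).map (projHomL ι A N)).hom (τp.inv.hom z))) :=
    (Function.Bijective.of_comp_iff' hτx _).1 hg
  have h2 : Function.Bijective (fun z =>
      ((DerSch.stalkFunctor P (ι.base x)).map (projHomL ι A N)).hom (τp.inv.hom z)) :=
    (Function.Bijective.of_comp_iff' hpush _).1 h1
  exact (Function.Bijective.of_comp_iff _ hτp).1 h2

/-- **the projection formula for a closed immersion**, arbitrary modules. -/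
theorem isIso_projHomL_ci : IsIso (projHomL ι A N) := by
  rw [Groth.Agent.H4.FlatPull1.isIso_iff_stalk]
  intro p
  by_cases hp : p ∈ Set.range ι.base
  · obtain ⟨x, rfl⟩ := hp
    exact isIso_stalk_projHomL ι A N x
  · have h2 := isZero_stalk_push ι
      (CohB1.tensorMod ((Scheme.Modules.pullback ι).obj N) A) p hp
    have h0 := isZero_stalk_push ι A p hp
    have h0' : ∀ a : ((DerSch.stalkFunctor P p).obj ((Scheme.Modules.pushforward ι).obj A)),
        a = 0 := fun a =>
      LinearMap.congr_fun (congrArg ModuleCat.Hom.hom ((IsZero.iff_id_eq_zero _).1 h0)) a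
    have hB : IsZero (B p N ((Scheme.Modules.pushforward ι).obj A)) := by
      haveI : Subsingleton (B p N ((Scheme.Modules.pushforward ι).obj A) : Type u) := by
        refine ⟨fun s t => ?_⟩
        have key : ∀ s : (B p N ((Scheme.Modules.pushforward ι).obj A) : Type u), s = 0 := by
          intro s
          induction s using TensorProduct.induction_on with
          | zero => rfl
          | tmul a b => rw [h0' b, TensorProduct.tmul_zero]
          | add a b ha hb => rw [ha, hb, add_zero]
        rw [key s, key t]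
      exact ModuleCat.isZero_of_subsingleton _
    have h1 : IsZero ((DerSch.stalkFunctor P p).obj
        (CohB1.tensorMod N ((Scheme.Modules.pushforward ι).obj A))) :=
      hB.of_iso (stalkTensorObjIso p N ((Scheme.Modules.pushforward ι).obj A))
    exact ⟨⟨0, h1.eq_of_src _ _, h2.eq_of_src _ _⟩⟩

omit [IsClosedImmersion ι] in
/-- naturality of the projection morphism in the module on the target. -/
theorem projHomL_naturality_right {N N' : P.Modules} (ψ : N ⟶ N') :
    KoszTw.tensorMap ψ (𝟙 ((Scheme.Modules.pushforward ι).obj A)) ≫ projHomL ι A N' =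
      projHomL ι A N ≫ (Scheme.Modules.pushforward ι).map
        (KoszTw.tensorMap ((Scheme.Modules.pullback ι).map ψ) (𝟙 A)) := by
  apply hom_ext_tmul
  intro V l s
  rw [Scheme.Modules.Hom.comp_app, Scheme.Modules.Hom.comp_app, ConcreteCategory.comp_apply,
    ConcreteCategory.comp_apply, KoszTw.tensorMap_tmul, projHomL_app_tmul, projHomL_app_tmul]
  change _ = (KoszTw.tensorMap ((Scheme.Modules.pullback ι).map ψ) (𝟙 A)).app (ι ⁻¹ᵁ V)
    (SecTwist.tmul _ A (ι ⁻¹ᵁ V) _ _)
  rw [KoszTw.tensorMap_tmul, unitSec_naturality]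
  rfl

/-- **the projection formula as a natural isomorphism**: `- ⊗ ι_* A ≅ ι_* (ι^* - ⊗ A)`. -/
noncomputable def projNatIso :
    twF ((Scheme.Modules.pushforward ι).obj A) ≅
      Scheme.Modules.pullback ι ⋙ twF A ⋙ Scheme.Modules.pushforward ι :=
  NatIso.ofComponents (fun N =>
    (@asIso _ _ _ _ (projHomL ι A N) (isIso_projHomL_ci ι A N) :
      (twF ((Scheme.Modules.pushforward ι).obj A)).obj N ≅
        (Scheme.Modules.pullback ι ⋙ twF A ⋙ Scheme.Modules.pushforward ι).obj N))
    (by
      intro N N' ψ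
      have h := projHomL_naturality_right ι A ψ
      rw [← twF_map, ← twF_map] at h
      exact h)

end Main

end Groth.Agent.LD.CI
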