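import Mathlib
import Groth.Prelude.Def_ModSite2
import Groth.Prelude.Def_RDer
import Groth.Agent.Lib.Lead.CI.Proj
import Groth.Agent.Lib.Lead.CechExt.Bot
import Groth.Agent.Lib.Lead.MS.TensorColim

/-! # Change of rings along a closed immersion: the functor `G ↦ Hom_X(E, ι^♭ G)`. -/

set_option autoImplicit false
universe u
open CategoryTheory CategoryTheory.Limits AlgebraicGeometry

namespace Groth.Agent.LD.CI

open Groth.Agent.LD.QC

variable {X P : Scheme.{u}} (ι : X ⟶ P) [IsClosedImmersion ι]

instance preservesFiniteLimits_push : PreservesFiniteLimits (Scheme.Modules.pushforward ι) := by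
  haveI : PreservesLimitsOfSize.{u, u} (Scheme.Modules.pushforward ι) :=
    (Scheme.Modules.pullbackPushforwardAdjunction ι).rightAdjoint_preservesLimits
  exact PreservesLimitsOfSize.preservesFiniteLimits _

instance preservesFiniteColimits_push :
    PreservesFiniteColimits (Scheme.Modules.pushforward ι) := by
  haveI := preservesColimits_pushforward ι
  exact PreservesColimitsOfSize.preservesFiniteColimits _

instance additive_flat : (flat ι).Additive := (flatAdj ι).right_adjoint_additive

instance preservesFiniteLimits_flat : PreservesFiniteLimits (flat ι) := by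
  haveI : PreservesLimitsOfSize.{u, u} (flat ι) := (flatAdj ι).rightAdjoint_preservesLimits
  exact PreservesLimitsOfSize.preservesFiniteLimits _

/-- the functor `G ↦ Hom_X(A, ι^♭ G)`. -/
noncomputable def Tf (A : X.Modules) : P.Modules ⥤ X.Modules :=
  haveI := Groth.Agent.LD.MS.hasSheafHom (O := X.sheaf) A
  flat ι ⋙ ModSite.sheafHom (O := X.sheaf) A

/-- `ι_* (- ⊗ A) ⊣ Hom_X(A, ι^♭ -)`. -/
noncomputable def TfAdj (A : X.Modules) :
    twF A ⋙ Scheme.Modules.pushforward ι ⊣ Tf ι A :=
  haveI := Groth.Agent.LD.MS.hasSheafHom (O := X.sheaf) A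
  (ModSite.sheafHomAdj (O := X.sheaf) A).comp (flatAdj ι)

instance preservesFiniteLimits_Tf (A : X.Modules) : PreservesFiniteLimits (Tf ι A) := by
  haveI : PreservesLimitsOfSize.{u, u} (Tf ι A) := (TfAdj ι A).rightAdjoint_preservesLimits
  exact PreservesLimitsOfSize.preservesFiniteLimits _

instance additive_Tf (A : X.Modules) : (Tf ι A).Additive := by
  haveI := preservesBinaryBiproducts_of_preservesBinaryProducts (Tf ι A)
  exact Functor.additive_of_preservesBinaryBiproducts _

instance additive_Tf_push (A : X.Modules) :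
    (Tf ι A ⋙ Scheme.Modules.pushforward ι).Additive :=
  ⟨fun {_ _ u v} =>
    (congrArg (Scheme.Modules.pushforward ι).map
      (Functor.map_add (F := Tf ι A) (f := u) (g := v))).trans (Functor.map_add _)⟩

/-- **`Hom_P(ι_* A, -) ≅ ι_* Hom_X(A, ι^♭ -)`.** -/
noncomputable def sheafHomPushIso (A : X.Modules)
    [ModSite.HasSheafHom (O := P.sheaf) ((Scheme.Modules.pushforward ι).obj A)] :
    ModSite.sheafHom (O := P.sheaf) ((Scheme.Modules.pushforward ι).obj A) ≅
      Tf ι A ⋙ Scheme.Modules.pushforward ι :=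
  conjugateIsoEquiv
    (ModSite.sheafHomAdj (O := P.sheaf) ((Scheme.Modules.pushforward ι).obj A))
    ((Scheme.Modules.pullbackPushforwardAdjunction ι).comp (TfAdj ι A))
    (projNatIso ι A).symm

/-- `Hom_X(E, ι^♭ -)` sends injectives to injectives for `E` finite locally free. -/
theorem injective_Tf_obj (E : X.Modules) (hE : FlatMod.IsFinLocFree E) (Q : P.Modules)
    [Injective Q] : Injective ((Tf ι E).obj Q) := by
  haveI : (twF E).PreservesMonomorphisms :=
    ⟨fun {A B} f hf => by
      rw [twF_map]
      exact mono_tensorMap_of_isFinLocFree f E hE⟩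
  haveI : (Scheme.Modules.pushforward ι).PreservesMonomorphisms :=
    preservesMonomorphisms_of_preservesLimitsOfShape _
  exact Injective.injective_of_adjoint (TfAdj ι E) Q

/-- **S11920**. -/
theorem s11920 (Q : P.Modules) (hQ : Injective Q) (E : X.Modules) (hE : FlatMod.IsFinLocFree E)
    [ModSite.HasSheafHom (O := P.sheaf) ((Scheme.Modules.pushforward ι).obj E)] (J : X.Modules)
    (hJ : Nonempty ((Scheme.Modules.pushforward ι).obj J ≅
      (ModSite.sheafHom (O := P.sheaf) ((Scheme.Modules.pushforward ι).obj E)).obj Q)) :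
    Injective J := by
  haveI := hQ
  obtain ⟨e⟩ := hJ
  obtain ⟨e'⟩ := nonempty_iso_of_push_iso ι (A := J) (B := (Tf ι E).obj Q)
    (e ≪≫ (sheafHomPushIso ι E).app Q)
  haveI := injective_Tf_obj ι E hE Q
  exact Injective.of_iso e'.symm inferInstance

/-- the right derived functors of `Hom_X(E, ι^♭ -)` are computed by the Ext sheaves of `ι_* E`. -/
theorem nonempty_rightDerived_Tf_iso (E : X.Modules) (G : P.Modules)
    [ModSite.HasSheafHom (O := P.sheaf) ((Scheme.Modules.pushforward ι).obj E)]
    [HasInjectiveResolutions (ModSite.Mod P.sheaf)] (q : ℕ) (M : X.Modules)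
    (hM : Nonempty ((Scheme.Modules.pushforward ι).obj M ≅
      (ModSite.extSh (O := P.sheaf) ((Scheme.Modules.pushforward ι).obj E) q).obj G)) :
    haveI : HasInjectiveResolutions P.Modules := ‹HasInjectiveResolutions (ModSite.Mod P.sheaf)›
    Nonempty (((Tf ι E).rightDerived q).obj G ≅ M) := by
  haveI : HasInjectiveResolutions P.Modules := ‹HasInjectiveResolutions (ModSite.Mod P.sheaf)›
  obtain ⟨e⟩ := hM
  let Φ : P.Modules ⥤ P.Modules :=
    ModSite.sheafHom (O := P.sheaf) ((Scheme.Modules.pushforward ι).obj E)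
  haveI : Φ.Additive := ModSite.sheafHom_additive P.sheaf _
  let e0 : Φ ≅ Tf ι E ⋙ Scheme.Modules.pushforward ι := sheafHomPushIso ι E
  have e2 : ((Tf ι E ⋙ Scheme.Modules.pushforward ι).rightDerived q).obj G ≅
      (Φ.rightDerived q).obj G := ((RDer.rightDerivedIso e0 q).app G).symm
  have e3 : (Φ.rightDerived q).obj G ≅ (Scheme.Modules.pushforward ι).obj M := e.symm
  have e1 : (Scheme.Modules.pushforward ι).obj (((Tf ι E).rightDerived q).obj G) ≅
      (Scheme.Modules.pushforward ι).obj M :=
    (Groth.Agent.LD.CE.rightDerivedObjCompIso (Tf ι E) (Scheme.Modules.pushforward ι) G q).symm ≪≫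
      e2 ≪≫ e3
  exact nonempty_iso_of_push_iso ι e1

end Groth.Agent.LD.CI
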